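/-
Recognition of rank 3 groups: a homomorphism on a vertex stabiliser of a model graph extends, provided the local
structure determines the edge flip.
-/
import Cfsg.Agent.H77.TC
import Mathlib.Data.Set.Card
import Mathlib.Algebra.Group.Subgroup.ZPowers.Basic
import Mathlib.Algebra.Group.Int.TypeTags
import Mathlib.GroupTheory.GroupAction.Basic
import Mathlib.Data.Int.Cast.Lemmas

set_option autoImplicit false

namespace Cfsg.Agent.RK3

open MulAction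

/-- number of common neighbours of three vertices -/
noncomputable def cn {Λ : Type*} (A : Λ → Λ → Prop) (x y z : Λ) : ℕ := {w | A x w ∧ A y w ∧ A z w}.ncard

/-- triangles with `f` common neighbours -/
def Far {Λ : Type*} (A : Λ → Λ → Prop) (f : ℕ) (x y z : Λ) : Prop := A x y ∧ A y z ∧ A x z ∧ cn A x y z = f

section
variable {Λ : Type*} {A : Λ → Λ → Prop} {f : ℕ}

theorem cn_swap (x y z : Λ) : cn A x y z = cn A y x z :=
  congrArg Set.ncard (Set.ext fun _ => and_left_comm)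

theorem cn_swap' (x y z : Λ) : cn A x y z = cn A x z y :=
  congrArg Set.ncard (Set.ext fun _ => and_congr_right' and_comm)

theorem Far.swap (hs : ∀ x y, A x y → A y x) {x y z : Λ} (h : Far A f x y z) : Far A f y x z :=
  ⟨hs _ _ h.1, h.2.2.1, h.2.1, (cn_swap _ _ _).trans h.2.2.2⟩

theorem Far.swap' (hs : ∀ x y, A x y → A y x) {x y z : Λ} (h : Far A f x y z) : Far A f x z y :=
  ⟨h.2.2.1, hs _ _ h.2.1, h.1, (cn_swap' _ _ _).trans h.2.2.2⟩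

variable {X : Type*} [Group X] [MulAction X Λ] (hi : ∀ (g : X) x y, A x y → A (g • x) (g • y))
include hi

theorem adj_smul_iff (g : X) (x y : Λ) : A (g • x) (g • y) ↔ A x y :=
  ⟨fun h => by simpa using hi g⁻¹ _ _ h, hi g x y⟩

theorem cn_smul (g : X) (x y z : Λ) : cn A (g • x) (g • y) (g • z) = cn A x y z := by
  rw [cn, cn, ← Set.ncard_image_of_injective {w | A x w ∧ A y w ∧ A z w} (MulAction.injective g)]
  congr 1
  ext w
  constructor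
  · intro h
    refine ⟨g⁻¹ • w, ?_, smul_inv_smul _ _⟩
    rw [← smul_inv_smul g w] at h
    simpa only [Set.mem_ofPred_eq, adj_smul_iff hi] using h
  · rintro ⟨w, h, rfl⟩
    simpa only [Set.mem_ofPred_eq, adj_smul_iff hi] using h

theorem Far.smul (g : X) {x y z : Λ} (h : Far A f x y z) : Far A f (g • x) (g • y) (g • z) :=
  ⟨hi _ _ _ h.1, hi _ _ _ h.2.1, hi _ _ _ h.2.2.1, (cn_smul hi _ _ _ _).trans h.2.2.2⟩

end

/-- A model: the group `R` (inside a possibly larger group `Γ` of automorphisms) acting on a graph. -/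
structure Model (R Γ Λ : Type*) [Group R] [Group Γ] [MulAction R Λ] [MulAction Γ Λ] where
  ι : R →* Γ
  A : Λ → Λ → Prop
  v0 : Λ
  v1 : Λ
  v2 : Λ
  f : ℕ
  hι : ∀ (g : R) (x : Λ), ι g • x = g • x
  inj : Function.Injective ι
  symm : ∀ x y, A x y → A y x
  inv : ∀ (g : Γ) x y, A x y → A (g • x) (g • y)
  trans : ∀ x, ∃ g : R, g • v0 = x
  nbr : ∀ y, A v0 y → ∃ h : R, h • v0 = v0 ∧ h • v1 = y
  far : Far A f v0 v1 v2
  farT : ∀ y, Far A f v0 v1 y → ∃ p : R, p • v0 = v0 ∧ p • v1 = v1 ∧ p • v2 = y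
  base : ∀ e : Γ, (∀ y, Far A f v0 v1 y → Far A f v1 v2 y → Far A f v0 v2 y → e • y = y) → e = 1
  aut : ∀ τ : Λ → Λ, Set.MapsTo τ {y | Far A f v0 v1 y} {y | Far A f v0 v1 y} → Set.InjOn τ {y | Far A f v0 v1 y} →
    (∀ y y', Far A f v0 v1 y → Far A f v0 v1 y' → (A (τ y) (τ y') ↔ A y y')) →
    ∃ r : Γ, (r • v0 = v0 ∨ r • v0 = v1 ∧ r • v1 = v0) ∧ ∀ y, Far A f v0 v1 y → τ y = r • y
  idx : ∀ (r : Γ) (s e : R), (r * ι s) ^ 3 = ι e → r ∈ ι.range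
  cnt : {y | A v0 y ∧ A v1 y ∧ A v2 y ∧ cn A v0 v1 y = cn A v0 v2 y}.ncard < {y | Far A f v0 v1 y ∧ A v2 y}.ncard
  fill : ∀ y, A v0 y → A v1 y → ∃ w, Far A f w v0 v1 ∧ Far A f w v1 y ∧ Far A f w v0 y
  link : ∀ x, ∃ z, A v0 z ∧ A z x ∧ ∀ y, ∃ w, A v0 w ∧ A w x ∧ A z w ∧ A y w

/-- the orbital graph -/
def Orb (G : Type*) {Ω : Type*} [Group G] [MulAction G Ω] (a b x y : Ω) : Prop := ∃ g : G, g • a = x ∧ g • b = y

theorem Orb.inv {G Ω : Type*} [Group G] [MulAction G Ω] {a b : Ω} (g : G) (x y : Ω) (h : Orb G a b x y) :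
    Orb G a b (g • x) (g • y) := by
  obtain ⟨k, rfl, rfl⟩ := h
  exact ⟨g * k, mul_smul _ _ _, mul_smul _ _ _⟩

theorem Orb.symm {G Ω : Type*} [Group G] [MulAction G Ω] {a b : Ω} {t : G} (h1 : t • a = b) (h2 : t • b = a) (x y : Ω)
    (h : Orb G a b x y) : Orb G a b y x := by
  obtain ⟨k, rfl, rfl⟩ := h
  exact ⟨k * t, by rw [mul_smul, h1], by rw [mul_smul, h2]⟩

namespace Model

variable {R Γ Λ : Type*} [Group R] [Group Γ] [MulAction R Λ] [MulAction Γ Λ] (M : Model R Γ Λ)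

theorem invR (g : R) (x y : Λ) (h : M.A x y) : M.A (g • x) (g • y) := by
  rw [← M.hι, ← M.hι]; exact M.inv _ _ _ h

theorem eq_of_far {p q : R} (h : ∀ y, Far M.A M.f M.v0 M.v1 y → p • y = q • y) : p = q := by
  have := M.base (M.ι (q⁻¹ * p)) fun y hy _ _ => by rw [M.hι, mul_smul, h y hy, inv_smul_smul]
  rw [← map_one M.ι] at this
  exact (inv_mul_eq_one.1 (M.inj this)).symm

/-- local data in the group to be recognised -/
structure Loc (G Ω : Type*) [Group G] [MulAction G Ω] where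
  a : Ω
  b : Ω
  φ : stabilizer R M.v0 →* G
  fix : ∀ h, φ h • a = a
  sur : ∀ g : G, g • a = a → ∃ h, φ h = g
  hb : ∀ h : stabilizer R M.v0, φ h • b = b ↔ h.1 • M.v1 = M.v1
  t0 : G
  ta : t0 • a = b
  tb : t0 • b = a
  loc : ∀ h : stabilizer R M.v0, Orb G a b b (φ h • b) ↔ M.A M.v1 (h.1 • M.v1)

namespace Loc

variable {M} {G Ω : Type*} [Group G] [MulAction G Ω] (L : M.Loc G Ω)

/-- adjacency -/
abbrev B : Ω → Ω → Prop := Orb G L.a L.b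

theorem Bsymm (x y : Ω) (h : L.B x y) : L.B y x := Orb.symm L.ta L.tb x y h

open Classical in
/-- identification of the neighbourhoods -/
noncomputable def β (x : Λ) : Ω :=
  if h : M.A M.v0 x then L.φ ⟨(M.nbr x h).choose, (M.nbr x h).choose_spec.1⟩ • L.b else L.a

theorem β_h (h : stabilizer R M.v0) : L.β (h.1 • M.v1) = L.φ h • L.b := by
  have h1 : M.A M.v0 (h.1 • M.v1) := by
    have := M.invR h.1 _ _ M.far.1
    rwa [show h.1 • M.v0 = M.v0 from h.2] at this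
  rw [β, dif_pos h1, eq_comm, ← inv_smul_eq_iff, ← map_inv, ← mul_smul, ← map_mul, L.hb]
  change (_ * h.1) • M.v1 = _
  rw [mul_smul, Subgroup.coe_inv, inv_smul_eq_iff]
  exact (M.nbr _ h1).choose_spec.2.symm

theorem β_one : L.β M.v1 = L.b := by simpa using L.β_h 1

theorem exists_h {x : Λ} (h : M.A M.v0 x) : ∃ k : stabilizer R M.v0, k.1 • M.v1 = x :=
  let ⟨k, h1, h2⟩ := M.nbr x h; ⟨⟨k, h1⟩, h2⟩

theorem β_smul (h : stabilizer R M.v0) {x : Λ} (hx : M.A M.v0 x) : L.β (h.1 • x) = L.φ h • L.β x := by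
  obtain ⟨k, rfl⟩ := exists_h hx
  rw [← mul_smul, ← Subgroup.coe_mul, β_h, β_h, map_mul, mul_smul]

theorem β_inj {x y : Λ} (hx : M.A M.v0 x) (hy : M.A M.v0 y) (e : L.β x = L.β y) : x = y := by
  obtain ⟨k, rfl⟩ := exists_h hx
  obtain ⟨k', rfl⟩ := exists_h hy
  rw [β_h, β_h, ← inv_smul_eq_iff, ← map_inv, ← mul_smul, ← map_mul, L.hb, Subgroup.coe_mul, mul_smul,
    Subgroup.coe_inv, inv_smul_eq_iff] at e
  exact e

theorem B_β {x : Λ} (hx : M.A M.v0 x) : L.B L.a (L.β x) := by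
  obtain ⟨k, rfl⟩ := exists_h hx
  exact ⟨L.φ k, L.fix k, (L.β_h k).symm⟩

theorem exists_β {y : Ω} (hy : L.B L.a y) : ∃ x, M.A M.v0 x ∧ L.β x = y := by
  obtain ⟨g, h1, rfl⟩ := hy
  obtain ⟨h, rfl⟩ := L.sur g h1
  refine ⟨h.1 • M.v1, ?_, L.β_h h⟩
  have := M.invR h.1 _ _ M.far.1
  rwa [show h.1 • M.v0 = M.v0 from h.2] at this

theorem B_iff {x y : Λ} (hx : M.A M.v0 x) (hy : M.A M.v0 y) : L.B (L.β x) (L.β y) ↔ M.A x y := by
  obtain ⟨k, rfl⟩ := exists_h hx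
  obtain ⟨k', rfl⟩ := exists_h hy
  have := L.loc (k⁻¹ * k')
  rw [← adj_smul_iff Orb.inv (L.φ k), ← adj_smul_iff M.invR k.1, ← mul_smul, ← mul_smul, ← map_mul,
    ← Subgroup.coe_mul, mul_inv_cancel_left] at this
  rwa [β_h, β_h]

theorem cn_β {x y : Λ} (hx : M.A M.v0 x) (hy : M.A M.v0 y) : cn L.B L.a (L.β x) (L.β y) = cn M.A M.v0 x y := by
  rw [cn, cn, ← Set.InjOn.ncard_image (f := L.β) (s := {w | M.A M.v0 w ∧ M.A x w ∧ M.A y w})
    fun u hu w hw => L.β_inj hu.1 hw.1]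
  congr 1
  ext w
  constructor
  · rintro ⟨h1, h2, h3⟩
    obtain ⟨u, hu, rfl⟩ := L.exists_β h1
    exact ⟨u, ⟨hu, (L.B_iff hx hu).1 h2, (L.B_iff hy hu).1 h3⟩, rfl⟩
  · rintro ⟨u, ⟨hu, h2, h3⟩, rfl⟩
    exact ⟨L.B_β hu, (L.B_iff hx hu).2 h2, (L.B_iff hy hu).2 h3⟩

theorem far_β {y : Λ} (h : Far M.A M.f M.v0 M.v1 y) : Far L.B M.f L.a L.b (L.β y) := by
  rw [← L.β_one]
  exact ⟨L.B_β h.1, (L.B_iff h.1 h.2.2.1).2 h.2.1, L.B_β h.2.2.1, (L.cn_β h.1 h.2.2.1).trans h.2.2.2⟩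

theorem exists_far {y : Ω} (h : Far L.B M.f L.a L.b y) : ∃ x, Far M.A M.f M.v0 M.v1 x ∧ L.β x = y := by
  obtain ⟨x, hx, rfl⟩ := L.exists_β h.2.2.1
  rw [← L.β_one] at h
  exact ⟨x, ⟨M.far.1, (L.B_iff M.far.1 hx).1 h.2.1, hx, (L.cn_β M.far.1 hx).symm.trans h.2.2.2⟩, rfl⟩

theorem exists_r : ∃ r : Γ, (r • M.v0 = M.v0 ∨ r • M.v0 = M.v1 ∧ r • M.v1 = M.v0) ∧
    ∀ y, Far M.A M.f M.v0 M.v1 y → Far M.A M.f M.v0 M.v1 (r • y) ∧ L.β (r • y) = L.t0 • L.β y := by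
  have key : ∀ y, ∃ x, Far M.A M.f M.v0 M.v1 y → Far M.A M.f M.v0 M.v1 x ∧ L.β x = L.t0 • L.β y := fun y => by
    by_cases hy : Far M.A M.f M.v0 M.v1 y
    · have := (L.far_β hy).smul Orb.inv L.t0
      rw [L.ta, L.tb] at this
      obtain ⟨x, hx⟩ := L.exists_far (this.swap L.Bsymm)
      exact ⟨x, fun _ => hx⟩
    · exact ⟨y, fun h => absurd h hy⟩
  choose τ hτ using key
  obtain ⟨r, h1, h2⟩ := M.aut τ (fun y hy => (hτ y hy).1) (fun y hy y' hy' e => L.β_inj hy.2.2.1 hy'.2.2.1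
    ((smul_left_cancel_iff L.t0).1 (by rw [← (hτ y hy).2, ← (hτ y' hy').2, e]))) fun y y' hy hy' => by
      rw [← L.B_iff (hτ y hy).1.2.2.1 (hτ y' hy').1.2.2.1, (hτ y hy).2, (hτ y' hy').2,
        ← L.B_iff hy.2.2.1 hy'.2.2.1]
      exact adj_smul_iff Orb.inv _ _ _
  exact ⟨r, h1, fun y hy => h2 y hy ▸ hτ y hy⟩

theorem not_fix [Finite Λ] {r : Γ} (h0 : r • M.v0 = M.v0)
    (h : ∀ y, Far M.A M.f M.v0 M.v1 y → Far M.A M.f M.v0 M.v1 (r • y) ∧ L.β (r • y) = L.t0 • L.β y) : False := by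
  have hs : ∀ y, Far M.A M.f M.v0 M.v1 y → ∃ x, Far M.A M.f M.v0 M.v1 x ∧ r • x = y := fun y hy => by
    exact (((Set.toFinite _).injOn_iff_bijOn_of_mapsTo (f := (r • ·)) fun y hy => (h y hy).1).1
      (MulAction.injective r).injOn).surjOn hy
  have k1 : ∀ y y', Far M.A M.f M.v0 M.v1 y → Far M.A M.f M.v0 M.v1 y' →
      cn L.B L.b (L.β y) (L.β y') = cn L.B L.a (L.β y) (L.β y') := fun y y' hy hy' => by
    obtain ⟨x, hx, rfl⟩ := hs y hy
    obtain ⟨x', hx', rfl⟩ := hs y' hy'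
    rw [L.cn_β hy.2.2.1 hy'.2.2.1, (h x hx).2, (h x' hx').2, ← L.ta, cn_smul Orb.inv, L.cn_β hx.2.2.1 hx'.2.2.1,
      ← cn_smul M.inv r, h0]
  obtain ⟨g, g1, g2⟩ := L.Bsymm _ _ (L.B_β M.far.2.2.1)
  have h3 := ((L.far_β M.far).smul Orb.inv g⁻¹)
  rw [inv_smul_eq_iff.2 g1.symm, inv_smul_eq_iff.2 g2.symm] at h3
  obtain ⟨u, hu, e⟩ := L.exists_far ((h3.swap' L.Bsymm).swap L.Bsymm)
  obtain ⟨p, p0, p1, rfl⟩ := M.farT u hu
  set k := (g * L.φ ⟨p, p0⟩)⁻¹ with hk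
  have ka : k • L.a = L.b := by
    rw [hk, inv_smul_eq_iff, mul_smul, (L.hb ⟨p, p0⟩).2 p1, g2]
  have kc : k • L.β M.v2 = L.a := by rw [hk, inv_smul_eq_iff, mul_smul, L.fix, g1]
  have kb : k • L.b = L.β M.v2 := by
    rw [hk, inv_smul_eq_iff, mul_smul, ← L.β_smul ⟨p, p0⟩ M.far.2.2.1, e, smul_inv_smul]
  have key : ∀ y, ∃ x, Far M.A M.f M.v0 M.v1 y ∧ M.A M.v2 y → (M.A M.v0 x ∧ M.A M.v1 x ∧ M.A M.v2 x ∧
      cn M.A M.v0 M.v1 x = cn M.A M.v0 M.v2 x) ∧ L.β x = k • L.β y := fun y => by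
    by_cases hy : Far M.A M.f M.v0 M.v1 y ∧ M.A M.v2 y
    · have a1 := Orb.inv k _ _ ((L.B_iff M.far.2.2.1 hy.1.2.2.1).2 hy.2)
      have a2 := Orb.inv k _ _ (L.far_β hy.1).2.2.1
      have a3 := Orb.inv k _ _ (L.far_β hy.1).2.1
      have a4 := k1 _ _ M.far hy.1
      rw [← cn_smul Orb.inv k, ← cn_smul Orb.inv k L.a, ka, kb, kc] at a4
      rw [kc] at a1
      rw [ka] at a2
      rw [kb] at a3
      obtain ⟨x, hx, e⟩ := L.exists_β a1
      rw [← e] at a2 a3 a4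
      have a5 := L.cn_β M.far.1 hx
      have a6 := L.B_iff M.far.1 hx
      rw [L.β_one] at a5 a6
      rw [cn_swap, cn_swap L.b, L.cn_β M.far.2.2.1 hx] at a4
      exact ⟨x, fun _ => ⟨⟨hx, a6.1 a2, (L.B_iff M.far.2.2.1 hx).1 a3, a5.symm.trans a4.symm⟩, e⟩⟩
    · exact ⟨y, fun h => absurd h hy⟩
  choose σ hσ using key
  exact M.cnt.not_ge (Set.ncard_le_ncard_of_injOn σ (fun y hy => (hσ y hy).1) fun y hy y' hy' e =>
    L.β_inj hy.1.2.2.1 hy'.1.2.2.1 ((smul_left_cancel_iff k).1 (by rw [← (hσ y hy).2, ← (hσ y' hy').2, e])))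

theorem exists_t [Finite Λ] : ∃ (t : G) (r : R) (s e : stabilizer R M.v0), t • L.a = L.b ∧ t • L.b = L.a ∧
    r • M.v0 = M.v1 ∧ r • M.v1 = M.v0 ∧ r • M.v2 = M.v2 ∧ s.1 • M.v1 = M.v2 ∧ (r * s) ^ 3 = e ∧
    (t * L.φ s) ^ 3 = L.φ e ∧ ∀ y, Far M.A M.f M.v0 M.v1 y → L.β (r • y) = t • L.β y := by
  obtain ⟨r0, h1 | ⟨h1, h2⟩, h3⟩ := L.exists_r
  · exact (L.not_fix h1 h3).elim
  obtain ⟨p, p0, p1, p2⟩ := M.farT _ (h3 _ M.far).1
  obtain ⟨r, hr⟩ : ∃ r, r = (M.ι p)⁻¹ * r0 := ⟨_, rfl⟩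
  obtain ⟨t, ht⟩ : ∃ t, t = (L.φ ⟨p, p0⟩)⁻¹ * L.t0 := ⟨_, rfl⟩
  have r0' : r • M.v0 = M.v1 := by rw [hr, mul_smul, h1, inv_smul_eq_iff, M.hι, p1]
  have r1 : r • M.v1 = M.v0 := by rw [hr, mul_smul, h2, inv_smul_eq_iff, M.hι, p0]
  have r2 : r • M.v2 = M.v2 := by rw [hr, mul_smul, inv_smul_eq_iff, M.hι, p2]
  have ta : t • L.a = L.b := by rw [ht, mul_smul, L.ta, inv_smul_eq_iff, (L.hb ⟨p, p0⟩).2 p1]
  have tb : t • L.b = L.a := by rw [ht, mul_smul, L.tb, inv_smul_eq_iff, L.fix]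
  have h4 : ∀ y, Far M.A M.f M.v0 M.v1 y → L.β (r • y) = t • L.β y := fun y hy => by
    rw [hr, ht, mul_smul, mul_smul, ← (h3 y hy).2, ← map_inv, ← map_inv, M.hι, ← L.β_smul _ (h3 y hy).1.2.2.1]
    rfl
  obtain ⟨s0, s00, s01⟩ := M.nbr _ M.far.2.2.1
  have h5 := (M.far.swap' M.symm).smul M.invR s0⁻¹
  rw [inv_smul_eq_iff.2 s00.symm, inv_smul_eq_iff.2 s01.symm] at h5
  obtain ⟨q, q0, q1, q2⟩ := M.farT _ h5
  obtain ⟨s, s1, s2⟩ : ∃ s : stabilizer R M.v0, s.1 • M.v1 = M.v2 ∧ s.1 • M.v2 = M.v1 :=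
    ⟨⟨s0 * q, by rw [mem_stabilizer_iff, mul_smul, q0, s00]⟩, by simp only [mul_smul, q1, s01],
      by simp only [mul_smul, q2, smul_inv_smul]⟩
  have s0' : s.1 • M.v0 = M.v0 := s.2
  obtain ⟨e, he⟩ := L.sur ((t * L.φ s) ^ 3) (by
    simp only [pow_succ, pow_zero, one_mul, mul_smul]
    rw [L.fix, ta, ← L.β_one, ← L.β_smul _ M.far.1, s1, ← h4 _ M.far, r2, ← L.β_smul _ M.far.2.2.1, s2, L.β_one, tb])
  have h6 : ∀ y, Far M.A M.f M.v0 M.v1 y ∧ Far M.A M.f M.v1 M.v2 y ∧ Far M.A M.f M.v0 M.v2 y →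
      (Far M.A M.f M.v0 M.v1 ((r * M.ι s) • y) ∧ Far M.A M.f M.v1 M.v2 ((r * M.ι s) • y) ∧
        Far M.A M.f M.v0 M.v2 ((r * M.ι s) • y)) ∧ L.β ((r * M.ι s) • y) = (t * L.φ s) • L.β y := fun y hy => by
    have a1 := hy.1.smul M.inv (r * M.ι s)
    have a2 := hy.2.1.smul M.inv (r * M.ι s)
    have a3 := hy.2.2.smul M.inv (r * M.ι s)
    have a4 := hy.2.2.smul M.invR s.1
    rw [s0', s2] at a4
    simp only [mul_smul (r) (M.ι s) M.v0, mul_smul (r) (M.ι s) M.v1, mul_smul (r) (M.ι s) M.v2, M.hι, s0', s1, s2,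
      r0', r1, r2] at a1 a2 a3
    exact ⟨⟨a3.swap M.symm, a1, a2.swap M.symm⟩, by
      rw [mul_smul, mul_smul, M.hι, h4 _ a4, L.β_smul _ hy.1.2.2.1]⟩
  have h7 : (r * M.ι s) ^ 3 = M.ι e := by
    refine (inv_mul_eq_one.1 (M.base _ fun y y1 y2 y3 => ?_)).symm
    have b1 := h6 y ⟨y1, y2, y3⟩
    have b2 := h6 _ b1.1
    have b3 := h6 _ b2.1
    rw [mul_smul, inv_smul_eq_iff, M.hι]
    have e0 := M.invR e.1 _ _ y1.2.2.1
    rw [show e.1 • M.v0 = M.v0 from e.2] at e0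
    simp only [pow_succ, pow_zero, one_mul, mul_smul (_ * (r * _)), mul_smul (r * _) (r * _)]
    refine L.β_inj b3.1.1.2.2.1 e0 ?_
    rw [b3.2, b2.2, b1.2, L.β_smul _ y1.2.2.1, he]
    simp only [pow_succ, pow_zero, one_mul, mul_smul]
  obtain ⟨r, rfl⟩ := M.idx _ _ _ h7
  simp only [M.hι] at r0' r1 r2 h4
  exact ⟨t, r, s, e, ta, tb, r0', r1, r2, s1, M.inj (by rw [map_pow, map_mul, h7]), he.symm, h4⟩

theorem φ_eq {g : G} (hg : g • L.a = L.a) {p : stabilizer R M.v0}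
    (h : ∀ y, Far M.A M.f M.v0 M.v1 y → g • L.β y = L.β (p.1 • y)) : L.φ p = g := by
  obtain ⟨q, rfl⟩ := L.sur g hg
  have a : ∀ (k : stabilizer R M.v0) y, M.A M.v0 y → M.A M.v0 (k.1 • y) := fun k y hy => by
    have := M.invR k.1 _ _ hy
    rwa [show k.1 • M.v0 = M.v0 from k.2] at this
  exact congrArg L.φ (Subtype.ext (M.eq_of_far fun y hy => L.β_inj (a _ _ hy.2.2.1) (a _ _ hy.2.2.1)
    (by rw [← h y hy, L.β_smul _ hy.2.2.1])))

theorem exists_hom [Finite Λ] : ∃ Φ : R →* G, ∀ h : stabilizer R M.v0, Φ h = L.φ h := by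
  obtain ⟨t, r, s, e, ta, tb, r0, r1, r2, s1, h1, h2, h3⟩ := L.exists_t
  have fr : ∀ y, Far M.A M.f M.v0 M.v1 y → Far M.A M.f M.v0 M.v1 (r • y) := fun y hy => by
    have := hy.smul M.invR r
    rw [r0, r1] at this
    exact this.swap M.symm
  have fr' : ∀ y, Far M.A M.f M.v0 M.v1 y → Far M.A M.f M.v0 M.v1 (r⁻¹ • y) := fun y hy => by
    have := hy.smul M.invR r⁻¹
    rw [inv_smul_eq_iff.2 r0.symm, inv_smul_eq_iff.2 r1.symm] at this
    exact this.swap M.symm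
  let T : H77.TC R Λ (stabilizer R M.v0) (Multiplicative ℤ) :=
    { i := (stabilizer R M.v0).subtype
      j := zpowersHom R r
      v := M.v0
      R := M.A
      S := {Multiplicative.ofAdd 1}
      inj := Subtype.val_injective
      fix := fun p => p.2
      stab := fun g hg => ⟨⟨g, hg⟩, rfl⟩
      inv := M.invR
      nbr := fun y hy => by
        obtain ⟨h, a1, a2⟩ := M.nbr y hy
        exact ⟨⟨h, a1⟩, _, rfl, by simp [r0, a2]⟩
      orb := fun x _ _ => M.trans x }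
  have hc : T.Cmp L.φ (zpowersHom G t) := by
    rintro p p' _ rfl _ rfl e1
    have e2 : p.1 * r = r * p'.1 := by simpa [T] using e1
    have e3 : p'.1 • M.v1 = M.v1 := by
      rw [← smul_left_cancel_iff r, ← mul_smul, ← e2, mul_smul, r1]; exact p.2
    simp only [zpowersHom_apply, toAdd_ofAdd, zpow_one]
    rw [← eq_mul_inv_iff_mul_eq]
    refine L.φ_eq (by rw [mul_smul, mul_smul, inv_smul_eq_iff.2 tb.symm, (L.hb p').2 e3, tb]) fun y hy => ?_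
    have a1 := fr' y hy
    have a2 := a1.smul M.invR p'.1
    rw [show p'.1 • M.v0 = M.v0 from p'.2, e3] at a2
    have a3 := h3 _ a1
    rw [smul_inv_smul] at a3
    rw [a3, mul_smul, mul_smul, inv_smul_smul, ← L.β_smul _ a1.2.2.1, ← h3 _ a2, ← mul_smul, ← e2, mul_smul,
      smul_inv_smul]
  have hq : (r⁻¹ * r⁻¹) • M.v0 = M.v0 := by
    rw [mul_smul, inv_smul_eq_iff.2 r1.symm, inv_smul_eq_iff.2 r0.symm]
  have hq' : L.φ ⟨_, hq⟩ = t⁻¹ * t⁻¹ :=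
    L.φ_eq (by rw [mul_smul, inv_smul_eq_iff.2 tb.symm, inv_smul_eq_iff.2 ta.symm]) fun y hy => by
      have a1 := h3 _ (fr' y hy)
      have a2 := h3 _ (fr' _ (fr' y hy))
      rw [smul_inv_smul] at a1 a2
      rw [a1, a2, mul_smul, inv_smul_smul, inv_smul_smul, mul_smul]
  have u1 : T.Ψ L.φ (zpowersHom G t) (r * s) = t * L.φ s := by
    simpa [T] using H77.TC.Ψ_eq hc 1 s (k := Multiplicative.ofAdd 1) rfl
  have u2 : T.Ψ L.φ (zpowersHom G t) (r * s * (r * s)) = t * L.φ s * (t * L.φ s) := by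
    have := H77.TC.Ψ_eq hc (e * s⁻¹) ⟨_, hq⟩ (k := Multiplicative.ofAdd 1) rfl
    rw [hq', map_mul L.φ, ← h2] at this
    simp only [T, Subgroup.coe_subtype, Subgroup.coe_mul, Subgroup.coe_inv, ← h1, zpowersHom_apply, toAdd_ofAdd,
      zpow_one, map_inv] at this
    have e1 : (r * s) ^ 3 * (s : R)⁻¹ * r * (r⁻¹ * r⁻¹) = r * s * (r * s) := by simp [pow_succ, mul_assoc]
    rw [e1] at this
    rw [this]
    simp [pow_succ, mul_assoc]
  obtain ⟨c, hc'⟩ : ∃ c, c = T.c L.φ (zpowersHom G t) := ⟨_, rfl⟩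
  have u0 : (r * s) • M.v0 = M.v1 := by rw [mul_smul, show s.1 • M.v0 = M.v0 from s.2, r0]
  have u0' : (r * s * (r * s)) • M.v0 = M.v2 := by rw [mul_smul, u0, mul_smul, s1, r2]
  have t0 : ∀ x y z, Far M.A M.f x y z → c x y * c y z = c x z := fun x y z h => by
    obtain ⟨g, rfl⟩ := M.trans x
    have a1 := h.smul M.invR g⁻¹
    rw [inv_smul_smul] at a1
    obtain ⟨k, k0, k1⟩ := M.nbr _ a1.1
    have a2 := a1.smul M.invR k⁻¹
    rw [inv_smul_eq_iff.2 k0.symm, inv_smul_eq_iff.2 k1.symm] at a2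
    obtain ⟨p, p0, p1, p2⟩ := M.farT _ a2
    have b0 : g • M.v0 = (g * k * p) • T.v := by simp only [T, mul_smul, p0, k0]
    have b1 : y = (g * k * p * (r * s)) • T.v := by
      rw [mul_smul, show (r * s) • T.v = M.v1 from u0]; simp only [mul_smul, p1, k1, smul_inv_smul]
    have b2 : z = (g * k * p * (r * s * (r * s))) • T.v := by
      rw [mul_smul, show (r * s * (r * s)) • T.v = M.v2 from u0']; simp only [mul_smul, p2, smul_inv_smul]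
    rw [b0, b1, b2] at h ⊢
    rw [hc', H77.TC.c_eq hc h.1, H77.TC.c_eq hc h.2.1, H77.TC.c_eq hc h.2.2.1, inv_mul_cancel_left,
      inv_mul_cancel_left, ← mul_assoc (g * k * p) (r * s) (r * s), inv_mul_cancel_left, u1, u2]
    group
  have t1 : ∀ x y z, M.A x y → M.A y z → M.A x z → c x y * c y z = c x z := fun x y z a1 a2 a3 => by
    obtain ⟨g, rfl⟩ := M.trans x
    have a4 := M.invR g⁻¹ _ _ a1
    rw [inv_smul_smul] at a4
    obtain ⟨k, k0, k1⟩ := M.nbr _ a4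
    obtain ⟨w, b1, b2, b3⟩ := M.fill ((g * k)⁻¹ • z)
      (by rw [← adj_smul_iff M.invR (g * k), smul_inv_smul, mul_smul, k0]; exact a3)
      (by rw [← adj_smul_iff M.invR (g * k), smul_inv_smul, mul_smul, k1, smul_inv_smul]; exact a2)
    have c1 := t0 _ _ _ (b1.smul M.invR (g * k))
    have c2 := t0 _ _ _ (b2.smul M.invR (g * k))
    have c3 := t0 _ _ _ (b3.smul M.invR (g * k))
    simp only [smul_inv_smul, mul_smul g k M.v0, mul_smul g k M.v1, k0, k1] at c1 c2 c3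
    rw [← mul_right_inj (c ((g * k) • w) (g • M.v0)), ← mul_assoc, c1, c2, c3]
  have ex : ∀ y, ∃ a, ∀ z, M.A M.v0 z → M.A z y → c M.v0 z * c z y = a := fun y => by
    obtain ⟨z, a1, a2, a3⟩ := M.link y
    refine ⟨c M.v0 z * c z y, fun z' b1 b2 => ?_⟩
    obtain ⟨w, c1, c2, c3, c4⟩ := a3 z'
    rw [← t1 _ _ _ c4 c2 b2, ← t1 _ _ _ c3 c2 a2, ← mul_assoc, ← mul_assoc, t1 _ _ _ b1 c4 c1, t1 _ _ _ a1 c3 c1]
  choose F hF using ex
  have conn : ∀ g : R, Relation.ReflTransGen T.R T.v (g • T.v) := fun g => by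
    obtain ⟨z, a1, a2, -⟩ := M.link (g • M.v0)
    exact (Relation.ReflTransGen.single a1).tail a2
  obtain ⟨Φ, a1, -⟩ := H77.TC.exists_hom hc conn (by rintro _ rfl; simpa [T, r0] using M.far.1) F fun y y' h => by
    obtain ⟨z, -, -, a3⟩ := M.link y
    obtain ⟨w, c1, c2, -, c4⟩ := a3 y'
    rw [← hF y w c1 c2, ← hF y' w c1 (M.symm _ _ c4), ← hc', mul_assoc, t1 _ _ _ c2 h (M.symm _ _ c4)]
  exact ⟨Φ, a1⟩

end Loc

end Model

end Cfsg.Agent.RK3
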