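/-
Arithmetic of rank 3 permutation groups and the recognition theorem for a model graph.
-/
import Cfsg.Agent.RK3.Core
import Mathlib.GroupTheory.GroupAction.Blocks
import Mathlib.Combinatorics.Enumerative.DoubleCounting
import Mathlib.GroupTheory.Subgroup.Simple

set_option autoImplicit false

namespace Cfsg.Agent.RK3

open MulAction
open scoped Pointwise

section
variable {G Ω : Type*} [Group G] [MulAction G Ω]

theorem orb_iff {a b y : Ω} : Orb G a b a y ↔ y ∈ orbit (stabilizer G a) b :=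
  ⟨fun ⟨g, h1, h2⟩ => ⟨⟨g, h1⟩, h2⟩, fun ⟨g, h⟩ => ⟨g, g.2, h⟩⟩

theorem nb_smul (a b : Ω) (g : G) (x : Ω) : {y | Orb G a b (g • x) y} = g • {y | Orb G a b x y} := by
  ext y
  rw [Set.mem_smul_set_iff_inv_smul_mem, Set.mem_ofPred_eq, Set.mem_ofPred_eq, ← adj_smul_iff Orb.inv g x,
    smul_inv_smul]

theorem ncard_smul {X : Type*} [Group X] [MulAction X Ω] (g : X) (S : Set Ω) : (g • S).ncard = S.ncard :=
  Set.ncard_image_of_injective S (MulAction.injective g)

theorem ncard_orbit_eq (a x : Ω) :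
    (orbit (stabilizer G a) x).ncard = (stabilizer G x).relIndex (stabilizer G a) := by
  rw [← index_stabilizer]; rfl

theorem ncard_paired [Finite Ω] [IsPretransitive G Ω] (a : Ω) (g : G) :
    (orbit (stabilizer G a) (g⁻¹ • a)).ncard = (orbit (stabilizer G a) (g • a)).ncard := by
  have : Nonempty Ω := ⟨a⟩
  rw [ncard_orbit_eq, ncard_orbit_eq]
  have h1 : (stabilizer G (g⁻¹ • a)).relIndex (stabilizer G a) = (stabilizer G a).relIndex (stabilizer G (g • a)) := by
    have := stabilizer_smul_eq_stabilizer_map_conj g (g⁻¹ • a)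
    rw [smul_inv_smul] at this
    rw [stabilizer_smul_eq_stabilizer_map_conj g a]
    exact (Subgroup.relIndex_map_map_of_injective _ _ (MulAut.conj g).injective).symm.trans
      (congrArg (Subgroup.relIndex · _) this.symm)
  have h2 := Subgroup.relIndex_mul_index (inf_le_right : stabilizer G a ⊓ stabilizer G (g • a) ≤ _)
  have h3 := Subgroup.relIndex_mul_index (inf_le_left : stabilizer G a ⊓ stabilizer G (g • a) ≤ _)
  rw [Subgroup.inf_relIndex_right, index_stabilizer_of_transitive] at h2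
  rw [Subgroup.inf_relIndex_left, index_stabilizer_of_transitive] at h3
  rw [h1]
  exact Nat.eq_of_mul_eq_mul_right Nat.card_pos (h2.trans h3.symm)

theorem ne_of_orbit {a b : Ω} (h : 1 < (orbit (stabilizer G a) b).ncard) : a ∉ orbit (stabilizer G a) b := by
  intro h1
  have : orbit (stabilizer G a) b = {a} := by
    rw [← orbit_eq_iff.2 h1]
    ext y
    exact ⟨fun ⟨g, e⟩ => e ▸ g.2, fun e => by rw [e]; exact mem_orbit_self a⟩
  rw [this, Set.ncard_singleton] at h
  exact h.false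

variable [Finite Ω] [IsPretransitive G Ω] {a b c : Ω} {k l : ℕ} (hn : Nat.card Ω = 1 + k + l) (hk : 1 < k) (hl : 1 < l)
  (hkl : k ≠ l) (hb : (orbit (stabilizer G a) b).ncard = k) (hc : (orbit (stabilizer G a) c).ncard = l)
include hn hk hl hkl hb hc

omit [IsPretransitive G Ω] in
theorem tri (x : Ω) : x = a ∨ x ∈ orbit (stabilizer G a) b ∨ x ∈ orbit (stabilizer G a) c := by
  have h1 : Disjoint (orbit (stabilizer G a) b) (orbit (stabilizer G a) c) :=
    (orbit.eq_or_disjoint b c).resolve_left fun e => hkl (by rw [← hb, e, hc])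
  have h2 : insert a (orbit (stabilizer G a) b ∪ orbit (stabilizer G a) c) = Set.univ := by
    refine Set.eq_of_subset_of_ncard_le (Set.subset_univ _) ?_
    rw [Set.ncard_insert_of_notMem (fun h => h.elim (ne_of_orbit (hb ▸ hk)) (ne_of_orbit (hc ▸ hl))),
      Set.ncard_union_eq h1, hb, hc, Set.ncard_univ, hn]
    omega
  exact h2.ge (Set.mem_univ x)

theorem exists_swap : ∃ t : G, t • a = b ∧ t • b = a := by
  obtain ⟨g, rfl⟩ := exists_smul_eq G a b
  have h1 := ncard_paired a g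
  rcases tri hn hk hl hkl hb hc (g⁻¹ • a) with h | ⟨h, e⟩ | h
  · exact absurd (by rw [← inv_smul_eq_iff.1 h]; exact mem_orbit_self _) (ne_of_orbit (hb ▸ hk))
  · exact ⟨g * h, by rw [mul_smul, show h.1 • a = a from h.2], by
      rw [mul_smul, show h.1 • g • a = g⁻¹ • a from e, smul_inv_smul]⟩
  · rw [orbit_eq_iff.2 h, hc, hb] at h1
    exact absurd h1.symm hkl

theorem exists_lam (hd : ¬ k + 1 ∣ 1 + k + l) : ∃ m μ, m ≠ 0 ∧ μ ≤ k ∧ k * m = l * μ ∧
    {y | Orb G a b a y ∧ Orb G a b b y}.ncard + m + 1 = k := by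
  classical
  obtain ⟨t, ta, tb⟩ := exists_swap hn hk hl hkl hb hc
  have h3 := tri hn hk hl hkl hb hc
  have h1 : Disjoint (orbit (stabilizer G a) b) (orbit (stabilizer G a) c) :=
    (orbit.eq_or_disjoint b c).resolve_left fun e => hkl (by rw [← hb, e, hc])
  have ha : {y | Orb G a b a y} = orbit (stabilizer G a) b := Set.ext fun _ => orb_iff
  have hN : ∀ x, {y | Orb G a b x y}.ncard = k := fun x => by
    obtain ⟨g, rfl⟩ := exists_smul_eq G a x
    rw [nb_smul, ncard_smul, ha, hb]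
  have hirr : ∀ x, ¬ Orb G a b x x := fun x hx => by
    obtain ⟨g, rfl⟩ := exists_smul_eq G a x
    exact ne_of_orbit (hb ▸ hk) (orb_iff.1 ((adj_smul_iff Orb.inv g _ _).1 hx))
  have hirr' : ∀ x, x ∉ {y | Orb G a b x y} := hirr
  have hm : ∀ (d : Ω) (h : stabilizer G a) (x : Ω), ({y | Orb G a b (h • x) y} ∩ orbit (stabilizer G a) d).ncard =
      ({y | Orb G a b x y} ∩ orbit (stabilizer G a) d).ncard := fun d h x => by
    rw [← ncard_smul h ({y | Orb G a b x y} ∩ _), Set.smul_set_inter, smul_orbit]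
    exact congrArg (fun S : Set Ω => (S ∩ orbit (stabilizer G a) d).ncard) (nb_smul a b h.1 x)
  refine ⟨({y | Orb G a b b y} ∩ orbit (stabilizer G a) c).ncard, ({y | Orb G a b c y} ∩ orbit (stabilizer G a) b).ncard,
    fun h0 => hd ?_, hb ▸ Set.ncard_le_ncard Set.inter_subset_right, ?_, ?_⟩
  · have h4 : ∀ x ∈ insert a {y | Orb G a b a y}, insert x {y | Orb G a b x y} = insert a {y | Orb G a b a y} := by
      rintro x (rfl | hx)
      · rfl
      refine Set.eq_of_subset_of_ncard_le ?_ (by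
        rw [Set.ncard_insert_of_notMem (hirr' _), Set.ncard_insert_of_notMem (hirr' _), hN, hN])
      rintro y (rfl | hy)
      · exact Or.inr hx
      rcases h3 y with h | h | h
      · exact Or.inl h
      · exact Or.inr (orb_iff.2 h)
      · obtain ⟨g, rfl⟩ := orb_iff.1 hx
        have := (hm c g b).trans h0
        rw [Set.ncard_eq_zero] at this
        exact absurd (this.le ⟨hy, h⟩) (Set.notMem_empty _)
    have h5 : IsBlock G (insert a {y | Orb G a b a y}) := isBlock_iff_smul_eq_of_nonempty.2 fun g ⟨x, h6, h7⟩ => by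
      obtain ⟨x, h6, rfl⟩ := h6
      exact (congrArg _ (h4 _ h6).symm).trans (by rw [Set.smul_set_insert, ← nb_smul]; exact h4 _ h7)
    have := h5.ncard_dvd_card (Set.insert_nonempty _ _)
    rwa [Set.ncard_insert_of_notMem (hirr' _), hN, hn] at this
  · have := Finset.card_mul_eq_card_mul (s := (Set.toFinite (orbit (stabilizer G a) b)).toFinset)
      (t := (Set.toFinite (orbit (stabilizer G a) c)).toFinset) (Orb G a b)
      (m := ({y | Orb G a b b y} ∩ orbit (stabilizer G a) c).ncard)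
      (n := ({y | Orb G a b c y} ∩ orbit (stabilizer G a) b).ncard) (fun x hx => by
        obtain ⟨g, rfl⟩ := (Set.Finite.mem_toFinset _).1 hx
        rw [← hm c g b, ← Set.ncard_coe_finset]
        congr 1; ext y; simp [and_comm]) fun x hx => by
        obtain ⟨g, rfl⟩ := (Set.Finite.mem_toFinset _).1 hx
        rw [← hm b g c, ← Set.ncard_coe_finset]
        congr 1; ext y
        simp only [Finset.coe_filter, Finset.bipartiteBelow, Set.Finite.mem_toFinset, Set.mem_ofPred_eq,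
          Set.mem_inter_iff, and_comm]
        exact and_congr_right' ⟨Orb.symm ta tb _ _, Orb.symm ta tb _ _⟩
    rwa [← Set.ncard_eq_toFinset_card, ← Set.ncard_eq_toFinset_card, hb, hc] at this
  · rw [← hN b, ← Set.ncard_union_eq (Set.disjoint_left.2 fun y h h' => Set.disjoint_left.1 h1 (orb_iff.1 h.1) h'.2),
      ← Set.ncard_insert_of_notMem (a := a) (fun h => h.elim (fun h => hirr _ h.1) fun h => ne_of_orbit (hc ▸ hl) h.2)]
    congr 1
    ext y
    constructor
    · rintro (rfl | h | h)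
      · exact ⟨t, ta, tb⟩
      · exact h.2
      · exact h.1
    · intro h
      rcases h3 y with h' | h' | h'
      · exact Or.inl h'
      · exact Or.inr (Or.inl ⟨orb_iff.2 h', h⟩)
      · exact Or.inr (Or.inr ⟨h, h'⟩)

end

namespace Model

variable {R Γ Λ : Type*} [Group R] [Group Γ] [MulAction R Λ] [MulAction Γ Λ] (M : Model R Γ Λ)
variable {G Ω : Type*} [Group G] [MulAction G Ω]

/-- the subsets of the neighbourhood of the right size -/
def Lam (k l : ℕ) : Prop := ∀ (S : Set Λ) (m μ : ℕ), (∀ y ∈ S, M.A M.v0 y ∧ y ≠ M.v1) →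
  (∀ p : R, p • M.v0 = M.v0 → p • M.v1 = M.v1 → ∀ y ∈ S, p • y ∈ S) → m ≠ 0 → μ ≤ k → k * m = l * μ →
  S.ncard + m + 1 = k → ∀ y, M.A M.v0 y → (y ∈ S ↔ M.A M.v1 y)

theorem iso [Finite Λ] [Finite Ω] [Finite G] [IsPretransitive G Ω] [IsSimpleGroup R] {a b c : Ω} {k l : ℕ}
    (hn : Nat.card Ω = 1 + k + l) (hk : 1 < k) (hl : 1 < l) (hkl : k ≠ l) (hd : ¬ k + 1 ∣ 1 + k + l)
    (hb : (orbit (stabilizer G a) b).ncard = k) (hc : (orbit (stabilizer G a) c).ncard = l)
    (hΛ : Nat.card Λ = 1 + k + l) (lam : M.Lam k l) (φ : stabilizer R M.v0 ≃* stabilizer G a)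
    (hφ : ∀ h, φ h • b = b ↔ h.1 • M.v1 = M.v1) : Nonempty (G ≃* R) := by
  obtain ⟨t, ta, tb⟩ := exists_swap hn hk hl hkl hb hc
  obtain ⟨m, μ, h1, h2, h3, h4⟩ := exists_lam hn hk hl hkl hb hc hd
  have e1 : ∀ h h' : stabilizer R M.v0, φ h • b = φ h' • b ↔ h.1 • M.v1 = h'.1 • M.v1 := fun h h' => by
    rw [← inv_smul_eq_iff, ← map_inv, ← mul_smul, ← map_mul, hφ, Subgroup.coe_mul, mul_smul, Subgroup.coe_inv,
      inv_smul_eq_iff]
  have a0 : ∀ h : stabilizer R M.v0, M.A M.v0 (h.1 • M.v1) := fun h => by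
    have := M.invR h.1 _ _ M.far.1
    rwa [show h.1 • M.v0 = M.v0 from h.2] at this
  have key := lam {y | ∃ h : stabilizer R M.v0, h.1 • M.v1 = y ∧ Orb G a b b (φ h • b)} m μ (by
      rintro _ ⟨h, rfl, h5⟩
      refine ⟨a0 h, fun e => ne_of_orbit (hb ▸ hk) (orb_iff.1 ?_)⟩
      rw [(hφ h).2 e, ← ta] at h5
      rw [← adj_smul_iff Orb.inv t, ta]
      rwa [ta] at h5) (by
      rintro p p0 p1 _ ⟨h, rfl, h5⟩
      refine ⟨⟨p, p0⟩ * h, mul_smul _ _ _, ?_⟩
      have := Orb.inv (φ ⟨p, p0⟩).1 _ _ h5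
      rwa [show (φ ⟨p, p0⟩).1 • b = b from (hφ _).2 p1, show (φ ⟨p, p0⟩).1 • φ h • b = φ (⟨p, p0⟩ * h) • b by
        rw [map_mul, mul_smul]; rfl] at this) h1 h2 h3 (by
      rw [← h4]
      congr 2
      have hx : ∀ y, ∃ x, ∀ h : stabilizer R M.v0, h.1 • M.v1 = y → x = φ h • b := fun y => by
        by_cases h : ∃ h : stabilizer R M.v0, h.1 • M.v1 = y
        · obtain ⟨h, rfl⟩ := h
          exact ⟨φ h • b, fun h' e => (e1 _ _).2 e.symm⟩
        · exact ⟨a, fun h' e => absurd ⟨h', e⟩ h⟩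
      choose β hβ using hx
      refine Set.ncard_congr (fun y _ => β y) ?_ ?_ ?_
      · rintro _ ⟨h, rfl, h5⟩
        rw [hβ _ h rfl]
        exact ⟨orb_iff.2 (mem_orbit _ _), h5⟩
      · rintro _ _ ⟨h, rfl, -⟩ ⟨h', rfl, -⟩ e
        rw [hβ _ h rfl, hβ _ h' rfl] at e
        exact (e1 _ _).1 e
      · rintro y ⟨h5, h6⟩
        obtain ⟨g, rfl⟩ := orb_iff.1 h5
        obtain ⟨h, rfl⟩ := φ.surjective g
        exact ⟨_, ⟨h, rfl, h6⟩, hβ _ h rfl⟩)
  let L : M.Loc G Ω :=
    { a := a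
      b := b
      φ := (stabilizer G a).subtype.comp φ.toMonoidHom
      fix := fun h => (φ h).2
      sur := fun g hg => ⟨φ.symm ⟨g, hg⟩, by simp⟩
      hb := hφ
      t0 := t
      ta := ta
      tb := tb
      loc := fun h => by
        rw [← key _ (a0 h)]
        exact ⟨fun h5 => ⟨h, rfl, h5⟩, fun ⟨h', e, h5⟩ => (e1 _ _).2 e ▸ h5⟩ }
  obtain ⟨Φ, hΦ⟩ := L.exists_hom
  have hi : Function.Injective Φ := by
    rw [← MonoidHom.ker_eq_bot_iff]
    refine (IsSimpleGroup.eq_bot_or_eq_top_of_normal Φ.ker inferInstance).resolve_right fun e => ?_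
    have : orbit (stabilizer G a) b = {b} := Set.eq_singleton_iff_unique_mem.2 ⟨mem_orbit_self _, by
      rintro _ ⟨g, rfl⟩
      obtain ⟨h, rfl⟩ := φ.surjective g
      have h5 : Φ h = 1 := e.ge (Subgroup.mem_top h.1)
      change L.φ h • b = b
      rw [← hΦ, h5, one_smul]⟩
    rw [this, Set.ncard_singleton] at hb
    omega
  have : IsPretransitive R Λ := ⟨fun x y => by
    obtain ⟨g, rfl⟩ := M.trans x
    obtain ⟨h, rfl⟩ := M.trans y
    exact ⟨h * g⁻¹, by rw [← mul_smul, inv_mul_cancel_right]⟩⟩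
  refine ⟨(MulEquiv.ofBijective Φ ((Nat.bijective_iff_injective_and_card Φ).2 ⟨hi, ?_⟩)).symm⟩
  rw [← (stabilizer R M.v0).card_mul_index, ← (stabilizer G a).card_mul_index, index_stabilizer_of_transitive,
    index_stabilizer_of_transitive, hn, hΛ, Nat.card_congr φ.toEquiv]

/-- the version in which all subgroups of index `k` of the stabiliser fix a neighbour -/
theorem iso' [Finite Λ] [Finite Ω] [Finite G] [IsPretransitive G Ω] [IsSimpleGroup R] {a b c : Ω} {k l : ℕ}
    (hn : Nat.card Ω = 1 + k + l) (hk : 1 < k) (hl : 1 < l) (hkl : k ≠ l) (hd : ¬ k + 1 ∣ 1 + k + l)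
    (hb : (orbit (stabilizer G a) b).ncard = k) (hc : (orbit (stabilizer G a) c).ncard = l)
    (hΛ : Nat.card Λ = 1 + k + l) (lam : M.Lam k l) (φ : stabilizer R M.v0 ≃* stabilizer G a)
    {x : Λ} (hx : M.A M.v0 x) (hφ : ∀ h, φ h • b = b ↔ h.1 • x = x) : Nonempty (G ≃* R) := by
  obtain ⟨h, h0, rfl⟩ := M.nbr x hx
  refine M.iso (b := (φ ⟨h, h0⟩)⁻¹ • b) hn hk hl hkl hd (by rw [orbit_smul, hb]) hc hΛ lam φ fun g => ?_
  have := hφ (⟨h, h0⟩ * g * ⟨h, h0⟩⁻¹)
  rw [map_mul, map_mul, map_inv, mul_smul, mul_smul, ← eq_inv_smul_iff] at this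
  rw [this]
  simp [mul_smul]

end Model

end Cfsg.Agent.RK3
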